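import Groth.Agent.S3002
import Groth.Agent.Lib.RankOne21.BorelFibre
import Groth.Agent.Lib.MinPar15.Main
import Groth.Agent.Lib.AttrBorel21.GeomBC
import Groth.Agent.Lib.BorelFix21.BorelConj
import Groth.Agent.Lib.MTExt21.BaseChange
import Groth.Agent.Lib.SpreadSub19.Basic
import Groth.Agent.Lib.FinBorel21.Pairs

/-!
# The Borel locus of a parabolic subgroup is clopen
-/

set_option autoImplicit false
set_option linter.style.haveILetI false
set_option backward.isDefEq.respectTransparency.types false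

universe u

open CategoryTheory MonoidalCategory CartesianMonoidalCategory MonObj GrpObj AlgebraicGeometry

noncomputable section

namespace Groth.Agent.BorelClopen9

set_option maxHeartbeats 1600000 in
/-- Borel subgroups exist étale locally. -/
theorem exists_borel_etale {S : Scheme.{u}} (G : Over S) [GrpObj G] (hG : Red.IsReductive G) (s : S) :
    ∃ (U : Scheme.{u}) (f : U ⟶ S) (_ : Etale f), s ∈ Set.range f.base ∧
      ∃ (B : Over U) (_ : GrpObj B) (b : B ⟶ (Over.pullback f).obj G), Red.IsBorel b := by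
  classical
  obtain ⟨hGa, hGs, hGf⟩ := id hG
  haveI := hGa
  haveI := hGs
  have hconn : ∀ x : S, _root_.IsConnected (G.hom.base ⁻¹' {x}) := fun x => by
    let K := AlgebraicClosure (S.residueField x)
    haveI : ConnectedSpace (Red.geomFibre x G).left := (hGf x).2.2.1
    let p : (Red.geomFibre x G).left ⟶ G.left := Limits.pullback.fst G.hom (Red.geomPt x)
    have hr : Set.range p = G.hom.base ⁻¹' {x} := by
      show Set.range (Limits.pullback.fst G.hom (Red.geomPt x)) = _
      rw [Scheme.Pullback.range_fst]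
      refine congrArg _ (Set.eq_singleton_iff_unique_mem.2 ⟨?_, ?_⟩)
      · obtain ⟨z⟩ : Nonempty (Spec (CommRingCat.of K)) := inferInstance
        exact ⟨_, CentMT21.geomPt_apply x⟩
      · rintro _ ⟨z, rfl⟩
        obtain rfl : z = IsLocalRing.closedPoint K := Subsingleton.elim (α := PrimeSpectrum K) _ _
        exact CentMT21.geomPt_apply x
    rw [← hr]
    exact isConnected_range p.continuous
  obtain ⟨A, _, u, hu, hs, hred, B, _, v, hv, hvs, T, _, i, hi, r, hsplit⟩ :=
    S3002.result S G hconn s (hGf s)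
  haveI := hu
  haveI := hv
  haveI := hvs
  obtain ⟨a₀, ha₀⟩ := hs
  obtain ⟨b₀, hb₀⟩ := (hvs.surj) a₀
  refine ⟨Spec (CommRingCat.of B), v ≫ u, inferInstance, ⟨b₀, by rw [← ha₀, ← hb₀]; rfl⟩, ?_⟩
  let GR := Red.bc (v ≫ u) G
  haveI := hi.1
  haveI := hi.2.1
  haveI : IsAffineHom GR.hom := inferInstanceAs (IsAffineHom (Limits.pullback.snd G.hom (v ≫ u)))
  haveI : Smooth GR.hom := inferInstanceAs (Smooth (Limits.pullback.snd G.hom (v ≫ u)))
  haveI : IsAffine GR.left := isAffine_of_isAffineHom GR.hom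
  obtain ⟨C⟩ := DiagGL.nonempty_chars hsplit
  obtain ⟨ρ, hρ⟩ := RankOne21.exists_expansion i C
  letI : Algebra B Γ(GR.left, ⊤) := (DiagGL.alg GR).toAlgebra
  haveI : Algebra.FiniteType B Γ(GR.left, ⊤) := by
    haveI : LocallyOfFiniteType (Spec.map (CommRingCat.ofHom (DiagGL.alg GR))) := by
      have h : GR.left.isoSpec.inv ≫ GR.hom = Spec.map (CommRingCat.ofHom (DiagGL.alg GR)) := by
        rw [Iso.inv_comp_eq, Scheme.isoSpec_hom, DiagGL.can_aux]
      rw [← h]
      infer_instance
    exact RingHom.finiteType_algebraMap.1 ((HasRingHomProperty.Spec_iff (P := @LocallyOfFiniteType)).1 ‹_›)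
  obtain ⟨gens, hgens⟩ := (inferInstance : Algebra.FiniteType B Γ(GR.left, ⊤)).out
  let D₀ : Finset (Fin r → ℤ) := insert 0 (gens.biUnion fun F => (ρ F).coeff.support)
  obtain ⟨b, hb⟩ := TorPts21.exists_pairing_ne_zero
    (((D₀ ×ˢ D₀).image fun p => p.1 - p.2).filter fun e => e ≠ 0) fun e he => (Finset.mem_filter.1 he).2
  have hsub : ∀ F ∈ gens, ∀ e ∈ insert 0 (ρ F).coeff.support, e ∈ D₀ := fun F hF e he => by
    rcases Finset.mem_insert.1 he with rfl | he
    · exact Finset.mem_insert_self _ _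
    · exact Finset.mem_insert_of_mem (Finset.mem_biUnion.2 ⟨F, hF, he⟩)
  have hb' : ∀ F ∈ gens, ∀ F' ∈ gens, ∀ e ∈ insert 0 (ρ F).coeff.support, ∀ e' ∈ insert 0 (ρ F').coeff.support,
      TorPts21.pairing e b = TorPts21.pairing e' b → e = e' := fun F hF F' hF' e he e' he' h => by
    by_contra hne
    refine hb (e - e') (Finset.mem_filter.2 ⟨Finset.mem_image.2
      ⟨(e, e'), Finset.mem_product.2 ⟨hsub F hF e he, hsub F' hF' e' he'⟩, rfl⟩, sub_ne_zero.2 hne⟩) ?_
    simp only [TorPts21.pairing, Pi.sub_apply, sub_mul, Finset.sum_sub_distrib] at h ⊢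
    rw [h, sub_self]
  obtain ⟨Φ, hΦ0, hΦ⟩ := RankOne21.exists_grade_aux C b i
  obtain ⟨Bo, _, iB, hm, hcl, hsm, hB⟩ := RankOne21.exists_attrRel hΦ0 hΦ
  haveI := hm
  haveI := hcl
  haveI := hsm
  refine ⟨Bo, inferInstance, iB, hm, hcl, hsm, fun t => ?_⟩
  exact RankOne21.isBorelOver_attr C i b hρ hgens hb' hΦ0 hΦ iB hB (Red.geomPt t)
    ((RankOne21.isReductiveOver_geomFibre_iff (v ≫ u) G t).2 (hGf _))
    (TorPts21.isMaxTorus_of_isMaximalTorus (MTExt21.isMaximalTorus_bc hi (Red.geomPt t)))

section Field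

variable {k : Type u} [Field k] [IsAlgClosed k]

omit [IsAlgClosed k] in
/-- Borel subgroups are preserved by isomorphisms of the group. -/
theorem isBorelOver_comp_iso {B G G' : Over (Spec (CommRingCat.of k))} [GrpObj B] [GrpObj G] [GrpObj G']
    {iB : B ⟶ G} (h : Red.IsBorelOver k iB) (e : G ≅ G') [IsMonHom e.hom] : Red.IsBorelOver k (iB ≫ e.hom) := by
  obtain ⟨hm, hc, hs, hn, hsol, hmax⟩ := h
  haveI := hm
  haveI := hc
  haveI : IsIso e.hom.left := inferInstanceAs (IsIso ((Over.forget _).map e.hom))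
  haveI : IsIso e.inv.left := inferInstanceAs (IsIso ((Over.forget _).map e.inv))
  refine ⟨inferInstance, by rw [Over.comp_left]; infer_instance, hs, hn, hsol, fun B' _ i' _ f hc' hs' hn' hsol' hf => ?_⟩
  haveI := hc'
  haveI : IsMonHom e.inv := inferInstance
  exact hmax B' (i' ≫ e.inv) f (by rw [Over.comp_left]; infer_instance) hs' hn' hsol'
    (by rw [← Category.assoc, hf, Category.assoc, Iso.hom_inv_id, Category.comp_id])

/-- All Borel subgroups have the same dimension. -/
theorem dim_borel_eq {B B' G : Over (Spec (CommRingCat.of k))} [GrpObj B] [GrpObj B'] [GrpObj G] [IsAffine G.left]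
    [Smooth G.hom] [ConnectedSpace G.left] {i : B ⟶ G} {i' : B' ⟶ G} (h : Red.IsBorelOver k i)
    (h' : Red.IsBorelOver k i') : topologicalKrullDim B.left = topologicalKrullDim B'.left := by
  obtain ⟨g, f, -⟩ := BorelFix21.exists_conjBy i i' h h'
  exact ((Over.forget _).mapIso f).hom.homeomorph.isHomeomorph.topologicalKrullDim_eq

end Field

variable {S : Scheme.{u}} {G : Over S} [GrpObj G]

set_option maxHeartbeats 1000000 in
/-- The dimension of a Borel subgroup over an étale neighbourhood computes the dimension below. -/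
theorem dim_borel_below (hG : Red.IsReductive G) {U : Scheme.{u}} (f : U ⟶ S) {B : Over U} [GrpObj B]
    {b : B ⟶ (Over.pullback f).obj G} (hb : Red.IsBorel b) (v : U)
    {B₀ : Over (Spec (CommRingCat.of (AlgebraicClosure (S.residueField (f v)))))} [GrpObj B₀]
    {b₀ : B₀ ⟶ Red.geomFibre (f v) G} (hb₀ : Red.IsBorelOver _ b₀) :
    topologicalKrullDim B₀.left = topologicalKrullDim ↥(B.hom.base ⁻¹' {v}) := by
  haveI := hb.2.2.1
  rw [← MinPar15.dim_geomFibre B v]
  let k := Red.geomPt v
  obtain ⟨s, a, hs, hσ⟩ := MTExt21.exists_factor_geomPt (k ≫ f)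
  obtain rfl : s = f v := hs.trans (congrArg f (CentMT21.geomPt_apply v))
  let φ := Spec.map (CommRingCat.ofHom a)
  let g := Red.geomPt (f v)
  let E := SpreadSub19.bcComp f k (c := k ≫ f) rfl G ≪≫ (SpreadSub19.bcComp g φ (c := k ≫ f) hσ.symm G).symm
  haveI : IsMonHom E.hom := by
    haveI := SpreadSub19.bcComp_isMonHom f k (c := k ≫ f) rfl G
    haveI := SpreadSub19.bcComp_isMonHom g φ (c := k ≫ f) hσ.symm G
    exact inferInstanceAs (IsMonHom ((SpreadSub19.bcComp f k (c := k ≫ f) rfl G).hom ≫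
      (SpreadSub19.bcComp g φ (c := k ≫ f) hσ.symm G).inv))
  obtain ⟨hGa, hGs, hGc, -⟩ := hG.2.2 (f v)
  haveI := hGa; haveI := hGs; haveI := hGc
  haveI : IsAffine (Red.bc φ (Red.geomFibre (f v) G)).left := BorelFix21.isAffine_bc φ _
  haveI : Smooth (Red.bc φ (Red.geomFibre (f v) G)).hom := BorelFix21.smooth_bc φ _
  haveI : ConnectedSpace (Red.bc φ (Red.geomFibre (f v) G)).left := BorelFix21.connectedSpace_bc φ _
  have h1 := AttrBorel21.isBorelOver_bc_ext (TorPts21.isBorel_of_isBorelOver hb₀) _ φ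
  have h2 := isBorelOver_comp_iso (hb.2.2.2 v) E
  refine Eq.trans ?_ (dim_borel_eq h1 h2)
  haveI : Smooth B₀.hom := hb₀.2.2.1
  exact (CurveLocus.topologicalKrullDim_bc B₀.hom (IsPullback.of_hasPullback B₀.hom φ)).symm

set_option maxHeartbeats 1000000 in
/-- The points over which a parabolic subgroup is a Borel subgroup form a clopen set. -/
theorem isClopen_borelLocus {P : Over S} [GrpObj P] (hG : Red.IsReductive G) (p : P ⟶ G) (hP : Red.IsParabolic p) :
    IsClopen {s : S | Red.IsBorelOver (AlgebraicClosure (S.residueField s)) ((Over.pullback (Red.geomPt s)).map p)} := by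
  obtain ⟨hpm, hpc, hps, hpg⟩ := id hP
  haveI := hpm; haveI := hpc; haveI := hps
  -- criterion on dimensions
  have crit : ∀ {U : Scheme.{u}} (f : U ⟶ S) {B : Over U} [GrpObj B] {b : B ⟶ (Over.pullback f).obj G},
      Red.IsBorel b → ∀ v : U,
      (Red.IsBorelOver (AlgebraicClosure (S.residueField (f v))) ((Over.pullback (Red.geomPt (f v))).map p) ↔
        topologicalKrullDim ↥(P.hom.base ⁻¹' {f v}) = topologicalKrullDim ↥(B.hom.base ⁻¹' {v})) := by
    intro U f B _ b hb v
    obtain ⟨hGa, hGs, hGc, -⟩ := hG.2.2 (f v)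
    haveI := hGa; haveI := hGs; haveI := hGc
    obtain ⟨hPm, hPc, hPs, B₀, _, c, hc⟩ := hpg (f v)
    have key := dim_borel_below hG f hb v hc
    refine ⟨fun h => ?_, fun hd => ?_⟩
    · rw [← MinPar15.dim_geomFibre P (f v), ← key]
      exact dim_borel_eq h hc
    · haveI := hPc
      haveI := hPm
      haveI := hPs
      haveI := hc.1
      haveI := hc.2.1
      haveI : IsClosedImmersion (c.left ≫ ((Over.pullback (Red.geomPt (f v))).map p).left) := by
        rw [← Over.comp_left]; infer_instance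
      haveI : IsClosedImmersion c.left := IsClosedImmersion.of_comp c.left ((Over.pullback (Red.geomPt (f v))).map p).left
      haveI : ConnectedSpace ((Over.pullback (Red.geomPt (f v))).obj P).left :=
        TorPts21.connectedSpace_of_isParabolicOver (hpg (f v))
      haveI : IsIso c := by
        refine AffPart25.isIso_of_dim_le c (le_of_eq ?_)
        rw [key, MinPar15.dim_geomFibre P (f v), hd]
      haveI : Mono ((Over.pullback (Red.geomPt (f v))).map p) := Over.mono_of_mono_left _
      haveI : IsMonHom c := BorelFix21.isMonHom_of_comp _ c hc.1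
      haveI : IsMonHom (asIso c).hom := inferInstanceAs (IsMonHom c)
      haveI : IsMonHom (asIso c).symm.hom := inferInstanceAs (IsMonHom (asIso c).inv)
      have := FinBorel21.isBorelOver_iso hc (asIso c).symm
      simpa using this
  -- local constancy
  have hlc : IsLocallyConstant (fun s : S =>
      Red.IsBorelOver (AlgebraicClosure (S.residueField s)) ((Over.pullback (Red.geomPt s)).map p)) := by
    rw [IsLocallyConstant.iff_exists_open]
    intro s
    obtain ⟨U, f, hf, ⟨v, rfl⟩, B, _, b, hb⟩ := exists_borel_etale G hG s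
    haveI := hf
    haveI := hb.2.2.1
    have h1 := ((GrpCM20.isLocallyConstant_dim S P).comp_continuous f.continuous).isOpen_fiber
      (topologicalKrullDim ↥(P.hom.base ⁻¹' {f v}))
    have h2 := (GrpCM20.isLocallyConstant_dim U B).isOpen_fiber (topologicalKrullDim ↥(B.hom.base ⁻¹' {v}))
    refine ⟨f.base '' ({u | _} ∩ {u | _}), f.isOpenMap _ (h1.inter h2), ⟨v, ⟨rfl, rfl⟩, rfl⟩, ?_⟩
    rintro _ ⟨u, ⟨hu1, hu2⟩, rfl⟩
    refine propext ?_
    rw [crit f hb u, crit f hb v]
    exact Eq.to_iff (by rw [show topologicalKrullDim ↥(P.hom.base ⁻¹' {f u}) = _ from hu1,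
      show topologicalKrullDim ↥(B.hom.base ⁻¹' {u}) = _ from hu2])
  exact ⟨by simpa [Set.preimage] using (hlc.isClosed_fiber True), by simpa using (hlc.isOpen_fiber True)⟩

end Groth.Agent.BorelClopen9
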